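import Mathlib.FieldTheory.Galois.Basic
import Mathlib.FieldTheory.Separable
import Mathlib.Algebra.Central.Defs
import Mathlib.Algebra.CharP.Lemmas
import Mathlib.Algebra.CharP.Algebra
import Mathlib.Algebra.CharP.LinearMaps
import Mathlib.FieldTheory.IsAlgClosed.AlgebraicClosure
import Mathlib.RingTheory.LittleWedderburn
import Mathlib.LinearAlgebra.Dimension.Free
import Mathlib.FieldTheory.Minpoly.Field
import Mathlib.FieldTheory.Finite.Basic

/-! Artin–Schreier elements in division algebras of degree `p` in characteristic `p`. -/

namespace BddFinASLib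

universe u v

open Polynomial

variable {K : Type u} [Field K] {A : Type v} [DivisionRing A] [Algebra K A]

theorem not_isSeparable_of_pow_char (p : ℕ) [Fact p.Prime] [CharP K p] {z : A} {b : K}
    (hz : z ^ p = algebraMap K A b) (hzK : z ∉ Set.range (algebraMap K A)) :
    ¬ IsSeparable K z := by
  intro hsep
  have hint : IsIntegral K z := hsep.isIntegral
  obtain ⟨r, hr⟩ := IsAlgClosed.exists_pow_nat_eq (algebraMap K (AlgebraicClosure K) b)
    (Fact.out : p.Prime).pos
  haveI : CharP (AlgebraicClosure K) p := charP_of_injective_algebraMap (algebraMap K _).injective p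
  have hd : minpoly K z ∣ X ^ p - C b := minpoly.dvd _ _ (by simp [hz])
  have hd' : (minpoly K z).map (algebraMap K (AlgebraicClosure K)) ∣ (X - C r) ^ p := by
    have := Polynomial.map_dvd (algebraMap K (AlgebraicClosure K)) hd
    rwa [Polynomial.map_sub, Polynomial.map_pow, map_X, map_C, ← hr, map_pow,
      ← sub_pow_char] at this
  obtain ⟨k, -, hk⟩ := (dvd_prime_pow (prime_X_sub_C r) p).mp hd'
  have hk' := eq_of_monic_of_associated ((minpoly.monic hint).map _) ((monic_X_sub_C r).pow k) hk
  have hdeg : 1 < (minpoly K z).natDegree := by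
    by_contra h
    exact hzK (minpoly.natDegree_eq_one_iff.mp
      (le_antisymm (not_lt.mp h) (minpoly.natDegree_pos hint)))
  have hkdeg : k = (minpoly K z).natDegree := by
    have := congrArg natDegree hk'
    simp at this
    omega
  have hs : ((X - C r) ^ k).Separable := hk' ▸ Polynomial.Separable.map (show (minpoly K z).Separable from hsep)
  have := (Separable.of_pow (not_isUnit_X_sub_C r) (by omega) hs).2
  omega

/-- `x` of degree `p`, `z` not commuting with `x` while `z ^ p` does: `z` is inseparable. -/
theorem exists_not_isSeparable_of_conj (p : ℕ) [hp : Fact p.Prime] [CharP K p]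
    [Algebra.IsCentral K A] [FiniteDimensional K A] (hA : Module.finrank K A = p ^ 2)
    (x z : A) (hdeg : (minpoly K x).natDegree = p) (hnc : ¬ Commute z x)
    (hzxc : Commute (z ^ p) x) : ∃ v : A, ¬ IsSeparable K v := by
  let B : Subalgebra K A := Subalgebra.centralizer K {z ^ p}
  have hxB : x ∈ B := Subalgebra.mem_centralizer_iff K |>.mpr fun g hg => by
    rw [Set.mem_singleton_iff.mp hg]; exact hzxc.eq
  have hzB : z ∈ B := Subalgebra.mem_centralizer_iff K |>.mpr fun g hg => by
    rw [Set.mem_singleton_iff.mp hg]; exact (Commute.pow_self z p).eq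
  have hBdim : p < Module.finrank K B := by
    have hli : LinearIndependent K fun i : Fin p => x ^ (i : ℕ) := by
      have := linearIndependent_pow (K := K) x
      rwa [hdeg] at this
    have hnot : z ∉ Submodule.span K (Set.range fun i : Fin p => x ^ (i : ℕ)) := by
      intro h
      apply hnc
      have hle : Submodule.span K (Set.range fun i : Fin p => x ^ (i : ℕ)) ≤
          (Subalgebra.centralizer K {x}).toSubmodule := by
        rw [Submodule.span_le]
        rintro _ ⟨i, rfl⟩
        simp only [SetLike.mem_coe, Subalgebra.mem_toSubmodule, Subalgebra.mem_centralizer_iff,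
          Set.mem_singleton_iff]
        rintro g rfl
        exact (Commute.self_pow g i).eq
      exact ((Subalgebra.mem_centralizer_iff K).mp (hle h) x rfl).symm
    have hli' := hli.finCons hnot
    have hle : Submodule.span K (Set.range (Fin.cons z fun i : Fin p => x ^ (i : ℕ))) ≤
        B.toSubmodule := by
      rw [Submodule.span_le, Fin.range_cons, Set.insert_subset_iff]
      exact ⟨hzB, by rintro _ ⟨i, rfl⟩; exact pow_mem hxB i⟩
    have := Submodule.finrank_mono hle
    rw [finrank_span_eq_card hli', Fintype.card_fin] at this
    exact this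
  have hBtop : B = ⊤ := by
    letI : DivisionRing B := divisionRingOfFiniteDimensional K B
    haveI : Module.Free B A := Module.Free.of_divisionRing B A
    have hdvd : Module.finrank K B ∣ p ^ 2 := ⟨Module.finrank B A, by
      rw [← hA, Module.finrank_mul_finrank K B A]⟩
    obtain ⟨m, hm, hm'⟩ := (Nat.dvd_prime_pow hp.out).mp hdvd
    have hm2 : m = 2 := by
      rw [hm'] at hBdim
      rcases (show m = 0 ∨ m = 1 ∨ m = 2 by omega) with rfl | rfl | rfl
      · simp at hBdim; exact absurd hBdim hp.out.ne_zero
      · simp at hBdim
      · rfl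
    exact Algebra.toSubmodule_eq_top.mp (Submodule.eq_top_of_finrank_eq
      (by rw [Subalgebra.finrank_toSubmodule, hm', hA, hm2]))
  have hcentral : z ^ p ∈ Subalgebra.center K A := Subalgebra.mem_center_iff.mpr fun y => by
    have hy : y ∈ B := hBtop ▸ Algebra.mem_top
    exact ((Subalgebra.mem_centralizer_iff K).mp hy (z ^ p) rfl).symm
  replace hcentral := Algebra.IsCentral.out hcentral
  rw [Algebra.mem_bot] at hcentral
  obtain ⟨b, hb⟩ := hcentral
  refine ⟨z, not_isSeparable_of_pow_char p hb.symm ?_⟩
  rintro ⟨r, rfl⟩
  exact hnc (Algebra.commutes r x)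


/-- An element `x` with `x^p - x ∈ K` of degree `p` in a central division algebra of dimension
`p^2` produces an inseparable element. -/
theorem exists_not_isSeparable_of_artinSchreier (p : ℕ) [hp : Fact p.Prime] [CharP K p]
    [Algebra.IsCentral K A] [FiniteDimensional K A] (hA : Module.finrank K A = p ^ 2)
    (x : A) (a : K) (hx : x ^ p - x = algebraMap K A a) (hdeg : (minpoly K x).natDegree = p) :
    ∃ v : A, ¬ IsSeparable K v := by
  haveI : CharP A p := charP_of_injective_algebraMap (algebraMap K A).injective p
  -- `x` is not central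
  have hxK : x ∉ Set.range (algebraMap K A) := fun h => by
    rw [minpoly.natDegree_eq_one_iff.mpr h] at hdeg
    exact hp.out.one_lt.ne hdeg
  let D : Module.End K A := LinearMap.mulLeft K x - LinearMap.mulRight K x
  haveI : CharP (Module.End K A) p :=
    charP_of_injective_algebraMap (algebraMap K (Module.End K A)).injective p
  have hDp : D ^ p = D := by
    rw [sub_pow_char_of_commute p (LinearMap.commute_mulLeft_right x x), LinearMap.pow_mulLeft,
      LinearMap.pow_mulRight]
    have hxp : x ^ p = x + algebraMap K A a := by rw [← hx]; abel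
    ext y
    simp [D, hxp, add_mul, mul_add, Algebra.commutes a y]
  obtain ⟨w, hw⟩ : ∃ w : A, D w ≠ 0 := by
    by_contra! h
    have : x ∈ Subalgebra.center K A := Subalgebra.mem_center_iff.mpr fun y => by
      have h' := h y
      simp [D, sub_eq_zero] at h'
      exact h'.symm
    replace this := Algebra.IsCentral.out this
    rw [Algebra.mem_bot] at this
    exact hxK this
  -- an eigenvector with nonzero eigenvalue in the prime field
  obtain ⟨c, z, hc, hz0, hcz⟩ : ∃ (c : K) (z : A), c ≠ 0 ∧ z ≠ 0 ∧ D z = c • z := by
    by_contra! h
    let e : ZMod p →+* K := ZMod.castHom dvd_rfl K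
    have hprod : ((∏ c : ZMod p, (X - C c)) : (ZMod p)[X]) = X ^ p - X := by
      have h0 := FiniteField.roots_X_pow_card_sub_X (ZMod p)
      rw [ZMod.card] at h0
      have hm : (X ^ p - X : (ZMod p)[X]).Monic :=
        monic_X_pow_sub (by rw [degree_X]; exact_mod_cast hp.out.one_lt)
      have hcard : Multiset.card (X ^ p - X : (ZMod p)[X]).roots
          = (X ^ p - X : (ZMod p)[X]).natDegree := by
        rw [h0, FiniteField.X_pow_card_sub_X_natDegree_eq _ hp.out.one_lt]
        exact ZMod.card p
      have := prod_multiset_X_sub_C_of_monic_of_roots_card_eq hm hcard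
      rw [h0] at this
      exact this
    have hinj : ∀ s : Finset (ZMod p), (0 : ZMod p) ∉ s →
        Function.Injective (aeval D ((∏ c ∈ s, (X - C c)).map e)) := by
      intro s
      induction s using Finset.induction_on with
      | empty => intro _; simp [Function.Injective]
      | insert b t hb ih =>
        intro h0
        rw [Finset.prod_insert hb, Polynomial.map_mul, map_mul]
        simp only [Finset.mem_insert, not_or] at h0
        rw [Module.End.mul_eq_comp, LinearMap.coe_comp]
        refine Function.Injective.comp ?_ (ih h0.2)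
        rw [← LinearMap.ker_eq_bot, LinearMap.ker_eq_bot']
        intro y hy
        by_contra hy0
        refine h (e b) y ((map_ne_zero e).mpr (Ne.symm h0.1)) hy0 ?_
        simpa [sub_eq_zero, Module.algebraMap_end_apply] using hy
    have he : aeval D (((X ^ p - X : (ZMod p)[X])).map e) = 0 := by
      rw [Polynomial.map_sub, Polynomial.map_pow, map_X, map_sub, map_pow, aeval_X, hDp, sub_self]
    rw [← hprod, ← Finset.prod_erase_mul _ _ (Finset.mem_univ (0 : ZMod p)),
      Polynomial.map_mul, map_mul] at he
    refine hw (hinj (Finset.univ.erase 0) (Finset.notMem_erase _ _) ?_)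
    simpa using LinearMap.congr_fun he w
  have hzx : z * x = (x - algebraMap K A c) * z := by
    have : x * z - z * x = c • z := hcz
    rw [sub_mul, ← Algebra.smul_def, ← this]
    abel
  have hconj : ∀ n : ℕ, z ^ n * x = (x - algebraMap K A (n * c)) * z ^ n := by
    intro n
    induction n with
    | zero => simp
    | succ n ih =>
      rw [pow_succ, mul_assoc, hzx, ← mul_assoc, mul_sub, ih, ← Algebra.commutes]
      simp only [Nat.cast_succ, add_mul, one_mul, map_add, sub_mul, mul_assoc, ← sub_sub]
  have hzxc : Commute (z ^ p) x := by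
    have := hconj p
    simpa [CharP.cast_eq_zero K p, Commute, SemiconjBy] using this
  refine exists_not_isSeparable_of_conj p hA x z hdeg ?_ hzxc
  intro h
  have : c • z = 0 := by rw [← hcz]; simp [D, h.eq]
  exact (smul_ne_zero hc hz0) this

end BddFinASLib
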