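import Groth.Agent.BddFinAS.Core
import Mathlib.Tactic.NoncommRing
import Mathlib.Tactic.LinearCombination
import Mathlib.RingTheory.Adjoin.Basic

/-! Division algebras of degree two and three in the equal characteristic. -/

namespace BddFinASLib

universe u v

open Polynomial

theorem wedderburn_cubic_identities {R : Type*} [Ring R] (a b T S : R) (hT : ∀ y, T * y = y * T)
    (hS : ∀ y, S * y = y * S) (h : b * b + a * b - T * b + a * a - T * a + S = 0) :
    (a * b - b * a) * a = b * (a * b - b * a) ∧
      (a * b - b * a) * b = (T - a - b) * (a * b - b * a) := by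
  have hTl : ∀ y w, y * (T * w) = T * (y * w) := fun y w => by
    rw [← mul_assoc, ← hT, mul_assoc]
  have e1 : a * (b * b + a * b - T * b + a * a - T * a + S)
      - (b * b + a * b - T * b + a * a - T * a + S) * a = 0 := by simp [h]
  have e2 : b * (b * b + a * b - T * b + a * a - T * a + S)
      - (b * b + a * b - T * b + a * a - T * a + S) * b = 0 := by simp [h]
  simp only [mul_add, add_mul, mul_sub, sub_mul, mul_assoc, hTl, hS a, hS b] at e1 e2 ⊢
  constructor
  · linear_combination (norm := abel) -e1 - e2
  · linear_combination (norm := abel) e1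

variable {K : Type u} [Field K] {A : Type v} [DivisionRing A] [Algebra K A] [FiniteDimensional K A]

theorem pow_mem_span_lt (x : A) (y : A) (hy : y ∈ Algebra.adjoin K {x}) :
    y ∈ Submodule.span K (Set.range fun i : Fin (minpoly K x).natDegree => x ^ (i : ℕ)) := by
  rw [Algebra.adjoin_singleton_eq_range_aeval] at hy
  obtain ⟨g, rfl⟩ := hy
  simp only [AlgHom.toRingHom_eq_coe, RingHom.coe_coe]
  rw [← modByMonic_add_div g (minpoly K x)]
  rw [map_add, map_mul, minpoly.aeval, zero_mul, add_zero,
    aeval_eq_sum_range' (n := (minpoly K x).natDegree)]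
  · refine Submodule.sum_mem _ fun i hi => Submodule.smul_mem _ _ ?_
    exact Submodule.subset_span ⟨⟨i, Finset.mem_range.mp hi⟩, rfl⟩
  · refine natDegree_modByMonic_lt _ (minpoly.monic (IsIntegral.of_finite K x)) ?_
    exact minpoly.ne_one K x

theorem finrank_adjoin_singleton (x : A) :
    Module.finrank K (Algebra.adjoin K {x}) = (minpoly K x).natDegree := by
  have hspan : Subalgebra.toSubmodule (Algebra.adjoin K {x}) =
      Submodule.span K (Set.range fun i : Fin (minpoly K x).natDegree => x ^ (i : ℕ)) := by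
    refine le_antisymm (fun y hy => pow_mem_span_lt x y hy) (Submodule.span_le.mpr ?_)
    rintro _ ⟨i, rfl⟩
    exact pow_mem (Algebra.self_mem_adjoin_singleton K x) _
  rw [← Subalgebra.finrank_toSubmodule, hspan, finrank_span_eq_card (linearIndependent_pow x),
    Fintype.card_fin]

theorem finrank_dvd_of_subalgebra (B : Subalgebra K A) :
    Module.finrank K B ∣ Module.finrank K A := by
  letI : DivisionRing B := divisionRingOfFiniteDimensional K B
  haveI : Module.Free B A := Module.Free.of_divisionRing B A
  exact ⟨Module.finrank B A, (Module.finrank_mul_finrank K B A).symm⟩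

theorem natDegree_minpoly_dvd (x : A) : (minpoly K x).natDegree ∣ Module.finrank K A :=
  finrank_adjoin_singleton (K := K) x ▸ finrank_dvd_of_subalgebra _

variable [Algebra.IsCentral K A]

theorem exists_notMem_range (n : ℕ) (hn : 1 < n) (hA : Module.finrank K A = n) :
    ∃ v : A, v ∉ Set.range (algebraMap K A) := by
  by_contra! h
  have : (⊥ : Subalgebra K A) = ⊤ := eq_top_iff.mpr fun y _ => Algebra.mem_bot.mpr (h y)
  have h1 := Subalgebra.bot_eq_top_iff_finrank_eq_one.mp this
  omega

/-- In a central division algebra of prime-square dimension, a noncentral element has degree `p`,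
and its centralizer is the field it generates. -/
theorem degree_and_centralizer (p : ℕ) [hp : Fact p.Prime] (hA : Module.finrank K A = p ^ 2)
    (x : A) (hx : x ∉ Set.range (algebraMap K A)) :
    (minpoly K x).natDegree = p ∧ Subalgebra.centralizer K {x} = Algebra.adjoin K {x} := by
  have hne1 : (minpoly K x).natDegree ≠ 1 := fun h => hx (minpoly.natDegree_eq_one_iff.mp h)
  have hle : Algebra.adjoin K {x} ≤ Subalgebra.centralizer K {x} :=
    Algebra.adjoin_le (Set.singleton_subset_iff.mpr
      ((Subalgebra.mem_centralizer_iff K).mpr fun g hg => by rw [Set.mem_singleton_iff.mp hg]))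
  have hsmall : Module.finrank K (Subalgebra.centralizer K {x}) ≠ p ^ 2 := by
    intro h
    have htop : Subalgebra.centralizer K {x} = ⊤ := Algebra.toSubmodule_eq_top.mp
      (Submodule.eq_top_of_finrank_eq (by rw [Subalgebra.finrank_toSubmodule, h, hA]))
    have hc : x ∈ Subalgebra.center K A := Subalgebra.mem_center_iff.mpr fun y =>
      ((Subalgebra.mem_centralizer_iff K).mp (htop.symm ▸ Algebra.mem_top : y ∈ Subalgebra.centralizer K {x}) x rfl).symm
    replace hc := Algebra.IsCentral.out hc
    rw [Algebra.mem_bot] at hc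
    exact hx hc
  have hmono : (minpoly K x).natDegree ≤ Module.finrank K (Subalgebra.centralizer K {x}) := by
    rw [← finrank_adjoin_singleton, ← Subalgebra.finrank_toSubmodule, ← Subalgebra.finrank_toSubmodule]
    exact Submodule.finrank_mono hle
  obtain ⟨i, hi, hi'⟩ := (Nat.dvd_prime_pow hp.out).mp (hA ▸ natDegree_minpoly_dvd (K := K) x)
  obtain ⟨j, hj, hj'⟩ := (Nat.dvd_prime_pow hp.out).mp
    (hA ▸ finrank_dvd_of_subalgebra (Subalgebra.centralizer K {x}))
  have hi0 : i ≠ 0 := by rintro rfl; simp at hi'; exact hne1 hi'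
  have hj2 : j ≠ 2 := fun h => hsmall (hj'.trans (by rw [h]))
  have hij : i ≤ j := (Nat.pow_le_pow_iff_right hp.out.one_lt).mp (hi' ▸ hj' ▸ hmono)
  obtain ⟨rfl, rfl⟩ : i = 1 ∧ j = 1 := ⟨by omega, by omega⟩
  rw [pow_one] at hi' hj'
  refine ⟨hi', (Subalgebra.eq_of_le_of_finrank_eq hle ?_).symm⟩
  rw [finrank_adjoin_singleton, hi', hj']

theorem exists_conjugate_ne (x : A) (hx : x ∉ Set.range (algebraMap K A)) :
    ∃ y : A, y ≠ 0 ∧ y * x * y⁻¹ ≠ x := by
  by_contra! h
  have hc : x ∈ Subalgebra.center K A := Subalgebra.mem_center_iff.mpr fun y => by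
    rcases eq_or_ne y 0 with rfl | hy
    · simp
    · have := congrArg (· * y) (h y hy)
      simpa [mul_assoc, hy] using this
  replace hc := Algebra.IsCentral.out hc
  rw [Algebra.mem_bot] at hc
  exact hx hc

/-- An element with `D ^ 2` scalar is scalar, in odd dimension. -/
theorem mem_range_of_sq_mem (hodd : Odd (Module.finrank K A)) (D : A) (q : K)
    (h : D ^ 2 = algebraMap K A q) : D ∈ Set.range (algebraMap K A) := by
  apply minpoly.natDegree_eq_one_iff.mp
  have hle : (minpoly K D).natDegree ≤ 2 := by
    have := natDegree_le_of_dvd (minpoly.dvd K D (p := X ^ 2 - C q) (by simp [h]))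
      (monic_X_pow_sub_C q two_ne_zero).ne_zero
    simpa using this
  have hpos := minpoly.natDegree_pos (IsIntegral.of_finite K D)
  have hodd' := hodd.of_dvd_nat (natDegree_minpoly_dvd (K := K) D)
  rcases (show (minpoly K D).natDegree = 1 ∨ (minpoly K D).natDegree = 2 by omega) with e | e
  · exact e
  · rw [e] at hodd'; simp [Nat.odd_iff] at hodd'

theorem exists_not_isSeparable_degree_two [CharP K 2] (hA : Module.finrank K A = 2 ^ 2) :
    ∃ v : A, ¬ IsSeparable K v := by
  haveI : Fact (Nat.Prime 2) := ⟨Nat.prime_two⟩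
  obtain ⟨v, hv⟩ := exists_notMem_range _ (by norm_num) hA
  obtain ⟨hdeg, -⟩ := degree_and_centralizer 2 hA v hv
  by_contra! hsep
  set f := minpoly K v with hf
  have hm : f.Monic := minpoly.monic (IsIntegral.of_finite K v)
  have hfe : f = X ^ 2 + C (f.coeff 1) * X + C (f.coeff 0) := by
    conv_lhs => rw [hm.as_sum, hdeg]
    simp [Finset.sum_range_succ]; ring
  have h1 : f.coeff 1 ≠ 0 := by
    intro h0
    have hd : derivative f = 0 := by
      rw [hfe, h0]
      simp [CharTwo.add_self_eq_zero, one_add_one_eq_two, CharTwo.two_eq_zero]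
    have hs : f.Separable := hsep v
    rw [separable_def, hd, isCoprime_zero_right] at hs
    exact minpoly.not_isUnit K v hs
  have hroot : v ^ 2 + f.coeff 1 • v + algebraMap K A (f.coeff 0) = 0 := by
    have := minpoly.aeval K v
    rw [← hf, hfe] at this
    simpa [Algebra.smul_def] using this
  set α := f.coeff 1
  set β := f.coeff 0
  haveI : CharP A 2 := charP_of_injective_algebraMap (algebraMap K A).injective 2
  have hxe : (α⁻¹ • v) ^ 2 - α⁻¹ • v = algebraMap K A (-(α⁻¹ ^ 2 * β)) := by
    rw [CharTwo.sub_eq_add, smul_pow, map_neg, eq_neg_iff_add_eq_zero, map_mul, ← Algebra.smul_def]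
    calc _ = α⁻¹ ^ 2 • (v ^ 2 + α • v + algebraMap K A β) := by
          simp only [smul_add, smul_smul]
          rw [show α⁻¹ ^ 2 * α = α⁻¹ by field_simp]
      _ = 0 := by rw [hroot, smul_zero]
  have hxd : (minpoly K (α⁻¹ • v)).natDegree = 2 := by
    refine (degree_and_centralizer 2 hA _ ?_).1
    rintro ⟨r, hr⟩
    exact hv ⟨α * r, by rw [map_mul, hr, ← Algebra.smul_def, smul_inv_smul₀ h1]⟩
  obtain ⟨w, hw⟩ := exists_not_isSeparable_of_artinSchreier 2 hA _ _ hxe hxd
  exact hw (hsep w)

/-- The commutative case: the three roots give an Artin–Schreier element. -/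
theorem exists_artinSchreier_of_roots [CharP K 3] (hA : Module.finrank K A = 3 ^ 2)
    (a b : A) (ha : a ∉ Set.range (algebraMap K A)) (hb : b ∈ Algebra.adjoin K {a}) (t s r : K)
    (hr : a * (a * a) - algebraMap K A t * (a * a) + algebraMap K A s * a - algebraMap K A r = 0)
    (heq : b * b + a * b - algebraMap K A t * b + a * a - algebraMap K A t * a + algebraMap K A s = 0)
    (hts : t ≠ 0 ∨ s ≠ 0) :
    ∃ (x : A) (q : K), x ^ 3 - x = algebraMap K A q ∧ x ∉ Set.range (algebraMap K A) := by
  have hodd : Odd (Module.finrank K A) := by rw [hA]; decide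
  letI : CommRing (Algebra.adjoin K {a}) :=
    Algebra.adjoinCommRingOfComm K fun u hu v hv => by simp_all
  let E := Algebra.adjoin K {a}
  haveI : CharP E 3 := charP_of_injective_algebraMap (algebraMap K E).injective 3
  let a' : E := ⟨a, Algebra.self_mem_adjoin_singleton K a⟩
  let b' : E := ⟨b, hb⟩
  set T : E := algebraMap K E t with hT
  set S : E := algebraMap K E s with hS
  set R : E := algebraMap K E r with hR
  have hr' : a' * (a' * a') - T * (a' * a') + S * a' - R = 0 := Subtype.ext hr
  have heq' : b' * b' + a' * b' - T * b' + a' * a' - T * a' + S = 0 := Subtype.ext heq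
  set c' : E := T - a' - b' with hc'
  have h3 : (3 : E) = 0 := CharP.cast_eq_zero E 3
  set D : E := (c' - b') * (a' - c') * (b' - a') with hDdef
  have hD2 : D ^ 2 = algebraMap K E (t ^ 2 * s ^ 2 - s ^ 3 - t ^ 3 * r) := by
    have hS' : S = a' * b' + b' * c' + c' * a' := by rw [hc']; linear_combination heq'
    have hR' : R = a' * b' * c' := by
      rw [hc']; linear_combination -hr' + a' * heq'
    have hT' : T = a' + b' + c' := by rw [hc']; ring
    rw [map_sub, map_sub, map_mul, map_mul, map_pow, map_pow, map_pow, map_pow, ← hT, ← hS, ← hR,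
      hS', hR', hT', hDdef]
    -- the discriminant formula, reduced modulo three
    have hdisc : ((c' - b') * (a' - c') * (b' - a')) ^ 2 =
        (a' + b' + c') ^ 2 * (a' * b' + b' * c' + c' * a') ^ 2
          - 4 * (a' * b' + b' * c' + c' * a') ^ 3 - 4 * (a' + b' + c') ^ 3 * (a' * b' * c')
          + 18 * (a' + b' + c') * (a' * b' + b' * c' + c' * a') * (a' * b' * c')
          - 27 * (a' * b' * c') ^ 2 := by ring
    linear_combination hdisc + h3 * (-(a' * b' + b' * c' + c' * a') ^ 3
      - (a' + b' + c') ^ 3 * (a' * b' * c')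
      + 6 * (a' + b' + c') * (a' * b' + b' * c' + c' * a') * (a' * b' * c')
      - 9 * (a' * b' * c') ^ 2)
  obtain ⟨d, hd⟩ : (D : A) ∈ Set.range (algebraMap K A) :=
    mem_range_of_sq_mem hodd _ _ (congrArg Subtype.val hD2)
  have hd' : D = algebraMap K E d := Subtype.ext hd.symm
  by_cases ht : t = 0
  · have hs : s ≠ 0 := hts.resolve_left (not_not.mpr ht)
    have hT0 : T = 0 := by rw [hT, ht, map_zero]
    set y : E := b' * (a' - c') with hy
    have hyy : y ^ 3 - S ^ 2 * y = R * D := by
      rw [hy, hDdef, hc', hT0]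
      have hR' : R = a' * b' * (-a' - b') := by
        linear_combination -hr' + a' * heq' + a' * b' * hT0
      have hS' : S = a' * b' + (a' + b') * (-a' - b') := by
        linear_combination heq' + (a' + b') * hT0
      rw [hR', hS']
      linear_combination (b' * (a' - (-a' - b'))) *
        (a' * b' * ((-a' - b') * (b' - a')) - b' * (-a' - b') * (a' * (-a' - b' - b'))
          - 3 * (a' * b') * (b' * (-a' - b'))) * h3
    refine ⟨((s⁻¹ • y : E) : A), r * d * (s⁻¹) ^ 3, ?_, ?_⟩
    · refine congrArg Subtype.val (a₁ := (s⁻¹ • y) ^ 3 - s⁻¹ • y) (a₂ := algebraMap K E _) ?_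
      rw [map_mul, map_mul, map_pow, ← hR, ← hd', ← hyy, Algebra.smul_def, hS, ← sub_eq_zero]
      have hinv : algebraMap K E s⁻¹ * algebraMap K E s = 1 := by
        rw [← map_mul, inv_mul_cancel₀ hs, map_one]
      linear_combination (algebraMap K E s⁻¹ * y) * (algebraMap K E s⁻¹ * algebraMap K E s + 1) * hinv
    · rintro ⟨k, hk⟩
      have hyk : y = algebraMap K E (s * k) := by
        rw [map_mul, show algebraMap K E k = s⁻¹ • y from Subtype.ext hk, ← Algebra.smul_def,
          smul_inv_smul₀ hs]
      have hμ2 : (b' - a') ^ 2 = algebraMap K E (-s) := by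
        rw [map_neg, ← hS]
        linear_combination heq' + (a' + b') * hT0 - a' * b' * h3
      obtain ⟨μ, hμ⟩ : ((b' - a' : E) : A) ∈ Set.range (algebraMap K A) :=
        mem_range_of_sq_mem hodd _ _ (congrArg Subtype.val hμ2)
      have hμ' : b' - a' = algebraMap K E μ := Subtype.ext hμ.symm
      have hμs : μ ^ 2 = -s := by
        apply (algebraMap K E).injective
        rw [map_pow, ← hμ', hμ2]
      have hμ0 : μ ≠ 0 := by rintro rfl; simp at hμs; exact hs hμs
      refine ha ⟨(s * k + s) / μ, ?_⟩
      refine congrArg Subtype.val (a₁ := algebraMap K E ((s * k + s) / μ)) (a₂ := a') ?_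
      rw [div_eq_inv_mul, map_mul, map_add, ← hyk, ← hS]
      have hinv : algebraMap K E μ⁻¹ * (b' - a') = 1 := by
        rw [hμ', ← map_mul, inv_mul_cancel₀ hμ0, map_one]
      have hnum : y + S = a' * (b' - a') := by
        rw [hy, hc', hT0]
        linear_combination heq' + (a' + b') * hT0
      rw [hnum]
      linear_combination a' * hinv
  · set y : E := c' - b' with hy
    have hyy : y ^ 3 - T ^ 2 * y = D := by
      rw [hy, hDdef, hc']
      linear_combination (T - a' - b' - b') *
        ((b' - a') * (T - a' - b') - b' * (a' - (T - a' - b')) - 3 * b' * (T - a' - b')) * h3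
    refine ⟨((t⁻¹ • y : E) : A), d * (t⁻¹) ^ 3, ?_, ?_⟩
    · refine congrArg Subtype.val (a₁ := (t⁻¹ • y) ^ 3 - t⁻¹ • y) (a₂ := algebraMap K E _) ?_
      rw [map_mul, map_pow, ← hd', ← hyy, Algebra.smul_def, hT, ← sub_eq_zero]
      have hinv : algebraMap K E t⁻¹ * algebraMap K E t = 1 := by
        rw [← map_mul, inv_mul_cancel₀ ht, map_one]
      linear_combination (algebraMap K E t⁻¹ * y) * (algebraMap K E t⁻¹ * algebraMap K E t + 1) * hinv
    · rintro ⟨k, hk⟩
      have hyk : y = algebraMap K E (t * k) := by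
        rw [map_mul, show algebraMap K E k = t⁻¹ • y from Subtype.ext hk, ← Algebra.smul_def,
          smul_inv_smul₀ ht]
      let κ := t * k - t
      have hbk : b' = a' + algebraMap K E κ := by
        rw [map_sub, ← hT, ← hyk, hy, hc']
        linear_combination b' * h3
      refine ha ⟨(s + κ ^ 2 - κ * t) / (2 * t), ?_⟩
      refine congrArg Subtype.val (a₁ := algebraMap K E ((s + κ ^ 2 - κ * t) / (2 * t))) (a₂ := a') ?_
      have h2 : (2 : K) ≠ 0 := by
        rw [show (2 : K) = ((2 : ℕ) : K) by simp, Ne, CharP.cast_eq_zero_iff K 3]; decide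
      have hinv : algebraMap K E (2 * t)⁻¹ * (2 * T) = 1 := by
        rw [hT, ← map_ofNat (algebraMap K E) 2, ← map_mul, ← map_mul,
          inv_mul_cancel₀ (mul_ne_zero h2 ht), map_one]
      rw [div_eq_inv_mul, map_mul, map_sub, map_add, map_pow, map_mul, ← hS, ← hT]
      have hnum : S + algebraMap K E κ ^ 2 - algebraMap K E κ * T = 2 * T * a' := by
        rw [hbk] at heq'
        linear_combination heq' - (a' * a' + a' * algebraMap K E κ) * h3
      rw [hnum]
      linear_combination a' * hinv

theorem exists_not_isSeparable_degree_three [CharP K 3] (hA : Module.finrank K A = 3 ^ 2) :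
    ∃ v : A, ¬ IsSeparable K v := by
  haveI : Fact (Nat.Prime 3) := ⟨Nat.prime_three⟩
  obtain ⟨v, hv⟩ := exists_notMem_range _ (by norm_num) hA
  obtain ⟨hdeg, hcent⟩ := degree_and_centralizer 3 hA v hv
  obtain ⟨y, hy0, hy⟩ := exists_conjugate_ne (K := K) v hv
  by_contra! hsep
  set f := minpoly K v with hf
  have hm : f.Monic := minpoly.monic (IsIntegral.of_finite K v)
  have hroot : ∀ w : A, aeval w f = 0 → w * (w * w) - algebraMap K A (-f.coeff 2) * (w * w)
      + algebraMap K A (f.coeff 1) * w - algebraMap K A (-f.coeff 0) = 0 := by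
    intro w hw
    have h3 : f.coeff 3 = 1 := by rw [← hdeg]; exact hm
    rw [aeval_eq_sum_range, hdeg] at hw
    simp [Finset.sum_range_succ, h3, pow_succ] at hw
    simp only [map_neg, neg_mul, sub_neg_eq_add, ← Algebra.smul_def, mul_assoc] at hw ⊢
    rw [← hw, Algebra.algebraMap_eq_smul_one]
    abel
  set t := -f.coeff 2
  set s := f.coeff 1
  set r := -f.coeff 0
  have hroot_v := hroot v (minpoly.aeval K v)
  have hroot_u : (y * v * y⁻¹) * ((y * v * y⁻¹) * (y * v * y⁻¹))
      - algebraMap K A t * ((y * v * y⁻¹) * (y * v * y⁻¹))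
      + algebraMap K A s * (y * v * y⁻¹) - algebraMap K A r = 0 := by
    have hcl : ∀ (c : A) (w : A), (∀ q, c * q = q * c) → y * (c * w) * y⁻¹ = c * (y * w * y⁻¹) :=
      fun c w hc => by rw [← mul_assoc y, ← hc]; simp [mul_assoc]
    have hpow : ∀ p q : A, (y * p * y⁻¹) * (y * q * y⁻¹) = y * (p * q) * y⁻¹ := by
      intro p q; simp [mul_assoc, hy0]
    have hone : y * (algebraMap K A r) * y⁻¹ = algebraMap K A r := by
      rw [← Algebra.commutes, mul_assoc, mul_inv_cancel₀ hy0, mul_one]
    rw [hpow, hpow, ← hcl _ _ (Algebra.commutes t), ← hcl _ _ (Algebra.commutes s), ← hone]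
    calc _ = y * (v * (v * v) - algebraMap K A t * (v * v) + algebraMap K A s * v
          - algebraMap K A r) * y⁻¹ := by simp only [mul_sub, sub_mul, mul_add, add_mul]
      _ = 0 := by rw [hroot_v]; simp
  set u := y * v * y⁻¹
  have he : u - v ≠ 0 := sub_ne_zero.mpr hy
  set T := algebraMap K A t with hT
  set S := algebraMap K A s with hS
  have hTc : ∀ w, T * w = w * T := Algebra.commutes t
  have hSc : ∀ w, S * w = w * S := Algebra.commutes s
  set w := (u - v) * u * (u - v)⁻¹ with hw
  have hwe : w * (u - v) = (u - v) * u := by rw [hw, mul_assoc, inv_mul_cancel₀ he, mul_one]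
  have heq : w * w + v * w - T * w + v * v - T * v + S = 0 := by
    have : (w * w + v * w - T * w + v * v - T * v + S) * (u - v) = 0 := by
      have hwwe : w * w * (u - v) = (u - v) * u * u := by
        rw [mul_assoc, hwe, ← mul_assoc, hwe]
      have hvwe : v * w * (u - v) = v * ((u - v) * u) := by rw [mul_assoc, hwe]
      have hTwe : T * w * (u - v) = T * ((u - v) * u) := by rw [mul_assoc, hwe]
      simp only [add_mul, sub_mul _ _ (u - v), hwwe, hvwe, hTwe]
      have hTl : ∀ p q, p * (T * q) = T * (p * q) := fun p q => by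
        rw [← mul_assoc, ← hTc, mul_assoc]
      simp only [mul_sub, sub_mul, mul_assoc, hTl]
      linear_combination (norm := abel) hroot_u - hroot_v
    exact (mul_eq_zero.mp this).resolve_right he
  by_cases hz : v * w - w * v = 0
  · have hwE : w ∈ Algebra.adjoin K {v} := by
      rw [← hcent, Subalgebra.mem_centralizer_iff]
      rintro g rfl
      exact sub_eq_zero.mp hz
    have hts : t ≠ 0 ∨ s ≠ 0 := by
      by_contra! h
      refine not_isSeparable_of_pow_char 3 (b := r) ?_ hv (hsep v)
      have := hroot_v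
      rw [hT, hS, h.1, h.2] at this
      simp [sub_eq_zero] at this
      rw [← this]; simp [pow_succ, mul_assoc]
    obtain ⟨x, q, hx, hxK⟩ := exists_artinSchreier_of_roots hA v w hv hwE t s r hroot_v heq hts
    obtain ⟨z, hz'⟩ := exists_not_isSeparable_of_artinSchreier 3 hA x q hx
      (degree_and_centralizer 3 hA x hxK).1
    exact hz' (hsep z)
  · obtain ⟨h1, h2⟩ := wedderburn_cubic_identities v w T S hTc hSc heq
    set z := v * w - w * v
    have hnc : ¬ Commute z v := by
      intro h
      have h' : (v - w) * z = 0 := by rw [sub_mul, ← h1, h.eq, sub_self]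
      rcases mul_eq_zero.mp h' with h' | h'
      · exact hz (by rw [show z = v * w - w * v from rfl, sub_eq_zero.mp h', sub_self])
      · exact hz h'
    have hzc : Commute (z ^ 3) v := by
      have h3' : z * (T - v - w) = v * z := by
        rw [mul_sub, mul_sub, ← hTc, h1, h2]
        simp only [sub_mul]
        abel
      show z ^ 3 * v = v * z ^ 3
      calc z ^ 3 * v = z * (z * (z * v)) := by simp [pow_succ, mul_assoc]
        _ = z * (z * (w * z)) := by rw [h1]
        _ = z * ((z * w) * z) := by rw [mul_assoc z w z]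
        _ = z * (((T - v - w) * z) * z) := by rw [h2]
        _ = (z * (T - v - w)) * (z * z) := by simp [mul_assoc]
        _ = v * z ^ 3 := by rw [h3']; simp [pow_succ, mul_assoc]
    obtain ⟨x, hx⟩ := exists_not_isSeparable_of_conj 3 hA v z hdeg hnc hzc
    exact hx (hsep x)

end BddFinASLib
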